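import Mathlib

/-!
Tits' argument bounding the degree of a sharply 4-transitive group.
-/

set_option autoImplicit false

namespace Cfsg.Agent.SharpFour

variable {G : Type*} [Group G] {Ω : Type*} [MulAction G Ω]

/-- Two elements agree as soon as they agree on four distinct points. -/
def IsSharp (G : Type*) [Group G] (Ω : Type*) [MulAction G Ω] : Prop :=
  ∀ (g : G) (a b c d : Ω), a ≠ b → a ≠ c → a ≠ d → b ≠ c → b ≠ d → c ≠ d →
    g • a = a → g • b = b → g • c = c → g • d = d → g = 1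

/-- Any four distinct points can be mapped to any four distinct points. -/
def IsFour (G : Type*) [Group G] (Ω : Type*) [MulAction G Ω] : Prop :=
  ∀ (a b c d a' b' c' d' : Ω), a ≠ b → a ≠ c → a ≠ d → b ≠ c → b ≠ d → c ≠ d →
    a' ≠ b' → a' ≠ c' → a' ≠ d' → b' ≠ c' → b' ≠ d' → c' ≠ d' →
    ∃ g : G, g • a = a' ∧ g • b = b' ∧ g • c = c' ∧ g • d = d'

theorem emb_injective {a b c d : Ω} (h1 : a ≠ b) (h2 : a ≠ c) (h3 : a ≠ d) (h4 : b ≠ c)
    (h5 : b ≠ d) (h6 : c ≠ d) : Function.Injective ![a, b, c, d] := by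
  intro i j h
  fin_cases i <;> fin_cases j <;> simp_all

theorem isFour_of_pretransitive (h : MulAction.IsMultiplyPretransitive G Ω 4) : IsFour G Ω := by
  intro a b c d a' b' c' d' h1 h2 h3 h4 h5 h6 k1 k2 k3 k4 k5 k6
  obtain ⟨g, hg⟩ := MulAction.isMultiplyPretransitive_iff.mp h
    ⟨_, emb_injective h1 h2 h3 h4 h5 h6⟩ ⟨_, emb_injective k1 k2 k3 k4 k5 k6⟩
  have e : ∀ i, g • ![a, b, c, d] i = ![a', b', c', d'] i := fun i => DFunLike.congr_fun hg i
  exact ⟨g, e 0, e 1, e 2, e 3⟩

theorem isSharp_of_stabilizer (h : ∀ x : Fin 4 ↪ Ω, MulAction.stabilizer G x = ⊥) :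
    IsSharp G Ω := by
  intro g a b c d h1 h2 h3 h4 h5 h6 ga gb gc gd
  have hg : g ∈ MulAction.stabilizer G
      (⟨_, emb_injective h1 h2 h3 h4 h5 h6⟩ : Fin 4 ↪ Ω) := by
    rw [MulAction.mem_stabilizer_iff]
    ext i
    fin_cases i <;> simp [ga, gb, gc, gd]
  rwa [h, Subgroup.mem_bot] at hg

/-- The set of possible images of a pair of fixed points. -/
def candidates (F : Set Ω) (c d : Ω) : Set (Ω × Ω) :=
  {(d, c)} ∪ (fun q => (c, q)) '' (F \ {c, d}) ∪ (fun p => (p, d)) '' (F \ {c, d})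

theorem bound (hs : IsSharp G Ω) (h4 : IsFour G Ω) {a b c d : Ω} (hab : a ≠ b) (hac : a ≠ c)
    (had : a ≠ d) (hbc : b ≠ c) (hbd : b ≠ d) (hcd : c ≠ d) :
    Finite Ω ∧ Nat.card Ω ≤ 11 ∧ (Even (Nat.card Ω) → Nat.card Ω ≤ 6) := by
  classical
  obtain ⟨t, ta, tb, tc, td⟩ := h4 a b c d b a c d hab hac had hbc hbd hcd hab.symm hbc hbd hac had hcd
  have ht2 : t * t = 1 := hs _ a b c d hab hac had hbc hbd hcd (by rw [mul_smul, ta, tb])
    (by rw [mul_smul, tb, ta]) (by rw [mul_smul, tc, tc]) (by rw [mul_smul, td, td])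
  have htt : ∀ x : Ω, t • t • x = x := fun x => by rw [← mul_smul, ht2, one_smul]
  have ht1 : t ≠ 1 := fun e => hab (by rw [← ta, e, one_smul])
  set F : Set Ω := {x | t • x = x} with hF
  -- at most three fixed points
  have hthree : ∀ x ∈ F, ∀ y ∈ F, x ≠ c → x ≠ d → y ≠ c → y ≠ d → x = y := by
    intro x hx y hy xc xd yc yd
    by_contra hne
    exact ht1 (hs t c d x y hcd xc.symm yc.symm xd.symm yd.symm hne tc td hx hy)
  have hFfin : F.Finite := by
    by_cases he : ∃ e ∈ F, e ≠ c ∧ e ≠ d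
    · obtain ⟨e, he, ec, ed⟩ := he
      refine (Set.toFinite {c, d, e}).subset fun x hx => ?_
      simp only [Set.mem_insert_iff, Set.mem_singleton_iff]
      by_contra hc
      push Not at hc
      exact hc.2.2 (hthree x hx e he hc.1 hc.2.1 ec ed)
    · push Not at he
      exact (Set.toFinite {c, d}).subset fun x hx => by
        simp only [Set.mem_insert_iff, Set.mem_singleton_iff]
        exact or_iff_not_imp_left.mpr (he x hx)
  have hFd : (F \ {c, d}).ncard ≤ 1 := (Set.ncard_le_one (hFfin.subset Set.sdiff_subset)).mpr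
    fun x hx y hy => by
      simp only [Set.mem_sdiff, Set.mem_insert_iff, Set.mem_singleton_iff, not_or] at hx hy
      exact hthree x hx.1 y hy.1 hx.2.1 hx.2.2 hy.2.1 hy.2.2
  have hcF : c ∈ F := tc
  have hdF : d ∈ F := td
  -- the moved points off `{a, b}`
  set M : Set Ω := {x | t • x ≠ x ∧ x ≠ a ∧ x ≠ b} with hM
  have hu : ∀ j ∈ M, ∃ u : G, u * u = 1 ∧ t * u = u * t ∧ u • a = a ∧ u • b = b ∧
      u • j = t • j := by
    intro j hj
    obtain ⟨hjt, hja, hjb⟩ := hj
    have h1 : a ≠ t • j := fun e => hjb (by rw [← htt j, ← e, ta])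
    have h2 : b ≠ t • j := fun e => hja (by rw [← htt j, ← e, tb])
    obtain ⟨u, ua, ub, uj, ut⟩ := h4 a b j (t • j) a b (t • j) j hab hja.symm h1 hjb.symm h2
      (Ne.symm hjt) hab h1 hja.symm h2 hjb.symm hjt
    refine ⟨u, hs _ a b j (t • j) hab hja.symm h1 hjb.symm h2 (Ne.symm hjt) ?_ ?_ ?_ ?_, ?_,
      ua, ub, uj⟩
    · rw [mul_smul, ua, ua]
    · rw [mul_smul, ub, ub]
    · rw [mul_smul, uj, ut]
    · rw [mul_smul, ut, uj]
    · have h3 : (t * u)⁻¹ * (u * t) = 1 := by
        refine hs _ a b j (t • j) hab hja.symm h1 hjb.symm h2 (Ne.symm hjt) ?_ ?_ ?_ ?_ <;>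
          rw [mul_smul, inv_smul_eq_iff, mul_smul, mul_smul]
        · rw [ta, ub, ua, ta]
        · rw [tb, ua, ub, tb]
        · rw [ut, uj, htt]
        · rw [htt, ut, uj]
      exact inv_mul_eq_one.mp h3
  choose! u huu hut hua hub huj using hu
  have huF : ∀ j ∈ M, ∀ x ∈ F, u j • x ∈ F := fun j hj x hx => by
    show t • u j • x = u j • x
    rw [← mul_smul, hut j hj, mul_smul, hx]
  let φ : Ω → Ω × Ω := fun j => (u j • c, u j • d)
  have hφ : ∀ j ∈ M, φ j ∈ candidates F c d := by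
    intro j hj
    have hne : u j ≠ 1 := fun e => hj.1 (by have := huj j hj; rw [e, one_smul] at this; exact this.symm)
    have hinv : ∀ x : Ω, u j • u j • x = x := fun x => by rw [← mul_smul, huu j hj, one_smul]
    have hp := huF j hj c hcF
    have hq := huF j hj d hdF
    set p := u j • c with hpdef
    set q := u j • d with hqdef
    have hpq : p ≠ q := fun e => hcd (smul_left_cancel (u j) e)
    show (p, q) ∈ candidates F c d
    by_cases hpd : p = d
    · have : q = c := by rw [hqdef, ← hpd, hpdef, hinv]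
      exact Or.inl (Or.inl (by rw [hpd, this]; rfl))
    by_cases hpc : p = c
    · refine Or.inl (Or.inr ⟨q, ⟨hq, ?_⟩, by rw [hpc]⟩)
      simp only [Set.mem_insert_iff, Set.mem_singleton_iff, not_or]
      exact ⟨fun e => hpq (hpc.trans e.symm), fun e =>
        hne (hs _ a b c d hab hac had hbc hbd hcd (hua j hj) (hub j hj) hpc e)⟩
    refine Or.inr ⟨p, ⟨hp, by simp [hpc, hpd]⟩, ?_⟩
    have hqd : q = d := by
      by_contra hqd
      have hqc : q ≠ c := fun e => hpd (by rw [hpdef, ← e, hqdef, hinv])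
      exact hpq (hthree p hp q hq hpc hpd hqc hqd)
    rw [hqd]
  have hfib : ∀ j ∈ M, ∀ k ∈ M, φ j = φ k → k = j ∨ k = t • j := by
    intro j hj k hk e
    simp only [φ, Prod.mk.injEq] at e
    have hv : (u k)⁻¹ * u j = 1 := hs _ a b c d hab hac had hbc hbd hcd
      (by rw [mul_smul, hua j hj, inv_smul_eq_iff, hua k hk])
      (by rw [mul_smul, hub j hj, inv_smul_eq_iff, hub k hk])
      (by rw [mul_smul, inv_smul_eq_iff, e.1])
      (by rw [mul_smul, inv_smul_eq_iff, e.2])
    have hjk : u k = u j := inv_mul_eq_one.mp hv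
    by_contra hc
    push Not at hc
    have hk' : u j • k = t • k := hjk ▸ huj k hk
    have huinv : ∀ x : Ω, u j • u j • x = x := fun x => by rw [← mul_smul, huu j hj, one_smul]
    have h5 : t * u j = 1 := hs _ j (t • j) k (t • k) (Ne.symm hj.1) hc.1.symm
      (fun e => hc.2 (by rw [e, htt])) hc.2.symm
      (fun e => hc.1 (smul_left_cancel t e).symm) (Ne.symm hk.1)
      (by rw [mul_smul, huj j hj, htt])
      (by rw [← huj j hj, mul_smul, huinv, huj j hj])
      (by rw [mul_smul, hk', htt])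
      (by rw [← hk', mul_smul, huinv, hk'])
    have h6 := congrArg (· • a) h5
    simp only [mul_smul, one_smul, hua j hj, ta] at h6
    exact hab h6.symm
  have hcfin : (candidates F c d).Finite := ((Set.finite_singleton _).union
    ((hFfin.subset Set.sdiff_subset).image _)).union ((hFfin.subset Set.sdiff_subset).image _)
  have hccard : (candidates F c d).ncard ≤ 1 + 2 * (F \ {c, d}).ncard := by
    refine (Set.ncard_union_le _ _).trans ?_
    have h1 := Set.ncard_union_le ({(d, c)} : Set (Ω × Ω)) ((fun q => (c, q)) '' (F \ {c, d}))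
    have h2 := Set.ncard_image_le (f := fun q => (c, q)) (hFfin.subset (Set.sdiff_subset (t := {c, d})))
    have h3 := Set.ncard_image_le (f := fun p => (p, d)) (hFfin.subset (Set.sdiff_subset (t := {c, d})))
    rw [Set.ncard_singleton] at h1
    omega
  -- `M` has at most twice as many points as there are candidates
  let Tf := hcfin.toFinset
  have hMfin : M.Finite ∧ M.ncard ≤ 2 * (candidates F c d).ncard := by
    have hsub : M ⊆ ⋃ x ∈ Tf, (M ∩ φ ⁻¹' {x}) := fun j hj =>
      Set.mem_biUnion (x := φ j) (hcfin.mem_toFinset.mpr (hφ j hj)) ⟨hj, rfl⟩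
    have hsmall : ∀ x, (M ∩ φ ⁻¹' {x}).Finite ∧ (M ∩ φ ⁻¹' {x}).ncard ≤ 2 := by
      intro x
      rcases (M ∩ φ ⁻¹' {x}).eq_empty_or_nonempty with e | ⟨j, hj, hjx⟩
      · rw [e]; simp
      have hss : M ∩ φ ⁻¹' {x} ⊆ {j, t • j} := fun k hk =>
        hfib j hj k hk.1 ((hjx : φ j = x).trans (hk.2 : φ k = x).symm)
      exact ⟨(Set.toFinite _).subset hss,
        (Set.ncard_le_ncard hss (Set.toFinite _)).trans ((Set.ncard_insert_le _ _).trans (by simp))⟩
    have hUfin : (⋃ x ∈ Tf, (M ∩ φ ⁻¹' {x})).Finite :=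
      Tf.finite_toSet.biUnion fun x _ => (hsmall x).1
    refine ⟨hUfin.subset hsub, (Set.ncard_le_ncard hsub hUfin).trans ?_⟩
    refine (Finset.set_ncard_biUnion_le Tf _).trans ?_
    refine (Finset.sum_le_sum fun x _ => (hsmall x).2).trans ?_
    rw [Finset.sum_const, smul_eq_mul, Set.ncard_eq_toFinset_card _ hcfin, Nat.mul_comm]
  have huniv : (Set.univ : Set Ω) ⊆ F ∪ {a, b} ∪ M := fun x _ => by
    by_cases h1 : t • x = x
    · exact Or.inl (Or.inl h1)
    by_cases h2 : x = a ∨ x = b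
    · exact Or.inl (Or.inr h2)
    push Not at h2
    exact Or.inr ⟨h1, h2.1, h2.2⟩
  have hfinU : (F ∪ {a, b} ∪ M).Finite := (hFfin.union (Set.toFinite _)).union hMfin.1
  have : Finite Ω := Set.finite_univ_iff.mp (hfinU.subset huniv)
  have hn : Nat.card Ω ≤ F.ncard + 2 + M.ncard := by
    rw [← Set.ncard_univ]
    refine (Set.ncard_le_ncard huniv hfinU).trans ?_
    refine (Set.ncard_union_le _ _).trans ?_
    have h1 := Set.ncard_union_le F {a, b}
    rw [Set.ncard_pair hab] at h1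
    omega
  have hFc : (F \ {c, d}).ncard + 2 = F.ncard := by
    rw [← Set.ncard_pair hcd]
    exact Set.ncard_sdiff_add_ncard_of_subset (Set.insert_subset hcF (Set.singleton_subset_iff.mpr hdF)) hFfin
  refine ⟨this, ?_, fun hev => ?_⟩
  · have := hMfin.2
    omega
  · -- the number of fixed points is even, hence two
    have hZ : IsPGroup 2 (Subgroup.zpowers t) := IsPGroup.of_card (n := 1) (by
      rw [pow_one, Nat.card_zpowers]
      exact orderOf_eq_prime (by rw [pow_two]; exact ht2) ht1)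
    have hmod := hZ.card_modEq_card_fixedPoints Ω
    have hfix : MulAction.fixedPoints (Subgroup.zpowers t) Ω = F := by
      ext x
      refine ⟨fun h => h ⟨t, Subgroup.mem_zpowers t⟩, fun h g => ?_⟩
      exact (MulAction.mem_stabilizer_iff.mp ((Subgroup.zpowers_le.mpr
        (MulAction.mem_stabilizer_iff.mpr h : t ∈ MulAction.stabilizer G x)) g.2) : (g : G) • x = x)
    rw [hfix, Nat.card_coe_set_eq] at hmod
    have := hMfin.2
    obtain ⟨m, hm⟩ := hev
    unfold Nat.ModEq at hmod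
    omega

end Cfsg.Agent.SharpFour
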